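import Groth.Agent.Lib.VA.Vals
import Groth.Agent.Lib.RelTilde8.GenLoc
import Groth.Agent.Lib.Ref1.Rank
import Mathlib.RingTheory.Flat.EquationalCriterion
import Mathlib.RingTheory.Flat.Localization
import Mathlib.AlgebraicGeometry.Morphisms.Flat

/-!
# Flatness of a relative `Proj` with eventually flat graded pieces
-/

set_option autoImplicit false
set_option backward.isDefEq.respectTransparency false
set_option linter.all false

universe u

open CategoryTheory CategoryTheory.Limits AlgebraicGeometry TopologicalSpace Opposite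
open scoped HomogeneousIdeal
open GrothLib.RelProjK (dg em Tw vl onChart tr)

noncomputable section

namespace GrothLib.RelFlat12

section Graded

variable {A σ : Type u} [CommRing A] [SetLike σ A] [AddSubgroupClass σ A] {𝒜 : ℕ → σ} [GradedRing 𝒜]

/-- Some homogeneous element of positive degree does not vanish at a point. -/
theorem exists_pos_notMem (y : ProjectiveSpectrum 𝒜) :
    ∃ (e : ℕ) (f : A), 0 < e ∧ f ∈ 𝒜 e ∧ f ∉ y.asHomogeneousIdeal := by
  classical
  obtain ⟨x, hx, hxy⟩ := SetLike.not_le_iff_exists.1 y.not_irrelevant_le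
  rw [HomogeneousIdeal.mem_irrelevant_iff, GradedRing.proj_apply] at hx
  by_contra h
  push Not at h
  refine hxy ?_
  rw [← DirectSum.sum_support_decompose 𝒜 x]
  refine Ideal.sum_mem _ fun k _ => ?_
  rcases Nat.eq_zero_or_pos k with rfl | hk
  · rw [hx]; exact zero_mem _
  · exact h k _ hk (SetLike.coe_mem _)

/-- An element killing a homogeneous element has a homogeneous component doing so. -/
theorem exists_component_notMem (y : ProjectiveSpectrum 𝒜) {t z : A} {i : ℕ} (hz : z ∈ 𝒜 i)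
    (ht : t ∉ y.asHomogeneousIdeal) (h : t * z = 0) :
    ∃ (k : ℕ) (t' : A), t' ∈ 𝒜 k ∧ t' ∉ y.asHomogeneousIdeal ∧ t' * z = 0 := by
  classical
  by_contra hne
  push Not at hne
  refine ht ?_
  rw [← DirectSum.sum_support_decompose 𝒜 t]
  refine Ideal.sum_mem _ fun k _ => by_contra fun hk => hne k _ (SetLike.coe_mem _) hk ?_
  rw [← DirectSum.coe_decompose_mul_add_of_right_mem 𝒜 hz, h]
  simp

end Graded

variable {S P : Scheme.{u}} {𝒮 : RelProj.QCGrAlg S} {p : P ⟶ S}
  {chart : ∀ (U : S.Opens) (hU : IsAffineOpen U), (((p ⁻¹ᵁ U : P.Opens) : Scheme.{u}) ≅ Proj (𝒮.deg U hU))}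
  {n : ℤ} {L : P.Modules}
  {lam : ∀ (U : S.Opens) (hU : IsAffineOpen U),
    L ⟶ (Scheme.Modules.pushforward (RelProj.emb p chart U hU)).obj (GrTwist.twist (𝒮.deg U hU) n)}

theorem vl_res {U : S.AffineZariskiSite} {W W' : P.Opens} (h : W' ≤ W) (s : Γ(L, W))
    (y : ProjectiveSpectrum (dg 𝒮 U)) (hy : em p chart U y ∈ W') :
    vl (onChart lam U (tr L h s)) y hy = vl (onChart lam U s) y (h hy) := by
  show vl ((lam U.1 U.2).app W' (tr L h s)) y hy = _
  rw [RelProjK.app_tr]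
  rfl

/-- Scalars from the base. -/
def ρ (U : S.AffineZariskiSite) {W : P.Opens} (h : W ≤ p ⁻¹ᵁ U.1) : Γ(S, U.1) →+* Γ(P, W) :=
  (P.presheaf.map (homOfLE h).op).hom.comp (p.app U.1).hom

theorem vl_ρ_smul (hP : RelProj.IsRelProj 𝒮 p chart) (U : S.AffineZariskiSite) {W : P.Opens}
    (h : W ≤ p ⁻¹ᵁ U.1) (c : Γ(S, U.1)) (s : Γ(L, W)) (y : ProjectiveSpectrum (dg 𝒮 U))
    (hy : em p chart U y ∈ W) :
    vl (onChart lam U (ρ U h c • s)) y hy =
      algebraMap _ (GrTwist.Loc (dg 𝒮 U) y) ((𝒮.str.app (op U.1)).hom c) * vl (onChart lam U s) y hy := by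
  rw [RelProjK.onChart_smul, RelProjK.vl_smul]
  refine congrArg (· * _) (Eq.trans ?_ (VA.val_app_str hP U c y (h hy)))
  have hn : (em p chart U).app W (ρ U h c) =
      ((Proj (dg 𝒮 U)).presheaf.map ((Opens.map (em p chart U).base).map (homOfLE h)).op).hom
        ((em p chart U).app _ (p.app U.1 c)) := by
    show (em p chart U).app W ((P.presheaf.map (homOfLE h).op).hom (p.app U.1 c)) = _
    rw [← CommRingCat.comp_apply, Scheme.Hom.naturality]
    rfl
  rw [hn]
  rfl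

/-- The stalk, as a module over the sections of the base. -/
abbrev stalkModule (p : P ⟶ S) (L : P.Modules) (U : S.Opens) {x : P} (hx : x ∈ p ⁻¹ᵁ U) :
    Module Γ(S, U) (L.presheaf.stalk x) :=
  Module.compHom _ ((P.presheaf.germ (p ⁻¹ᵁ U) x hx).hom.comp (p.app U).hom)

theorem smul_germ (U : S.AffineZariskiSite) {x : P} (hx : x ∈ p ⁻¹ᵁ U.1) {W : P.Opens} (h : W ≤ p ⁻¹ᵁ U.1)
    (hxW : x ∈ W) (c : Γ(S, U.1)) (s : Γ(L, W)) :
    letI := stalkModule p L U.1 hx
    c • L.presheaf.germ W x hxW s = L.presheaf.germ W x hxW (ρ U h c • s) := by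
  rw [Mero.germ_smul]
  show (P.presheaf.germ (p ⁻¹ᵁ U.1) x hx (p.app U.1 c) : P.presheaf.stalk x) •
    (L.presheaf.germ W x hxW s : L.presheaf.stalk x) = _
  rw [← TopCat.Presheaf.germ_res_apply P.presheaf (homOfLE h) x hxW (p.app U.1 c)]
  rfl

theorem exists_rep (U : S.AffineZariskiSite) (y : ProjectiveSpectrum (dg 𝒮 U))
    (v : L.presheaf.stalk (em p chart U y)) :
    ∃ (W : P.Opens) (hW : em p chart U y ∈ W) (_ : W ≤ p ⁻¹ᵁ U.1) (s : Γ(L, W)) (i j : ℕ)
      (a b : 𝒮.presheaf.obj (op U.1)), a ∈ dg 𝒮 U i ∧ b ∈ dg 𝒮 U j ∧ ((i : ℤ) = j + n ∨ a = 0) ∧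
      L.presheaf.germ W _ hW s = v ∧ b ∉ y.asHomogeneousIdeal ∧
      ∀ (z : ProjectiveSpectrum (dg 𝒮 U)) (hz : em p chart U z ∈ W), ∃ hb : b ∉ z.asHomogeneousIdeal,
        vl (onChart lam U s) z hz = Localization.mk a ⟨b, hb⟩ := by
  obtain ⟨W₀, hW₀, s₀, rfl⟩ := TopCat.Presheaf.exists_germ_eq L.presheaf v
  obtain ⟨Wy, hyW, iW, i, j, ⟨a, ha⟩, ⟨b, hb⟩, nin, hd, hw⟩ :=
    (show GrTwist.sectN (𝒜 := dg 𝒮 U) n (op (em p chart U ⁻¹ᵁ W₀)) from onChart lam U s₀).2 ⟨y, hW₀⟩
  let W : P.Opens := W₀ ⊓ (em p chart U ''ᵁ Wy)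
  have hxW : em p chart U y ∈ W := ⟨hW₀, y, hyW, rfl⟩
  have hle : W ≤ p ⁻¹ᵁ U.1 := by
    rintro _ ⟨-, z, -, rfl⟩
    exact (RelProjK.mem_opensRange_em (chart := chart) U).1 ⟨z, rfl⟩
  refine ⟨W, hxW, hle, tr L inf_le_left s₀, i, j, a, b, ha, hb, hd, TopCat.Presheaf.germ_res_apply _ _ _ _ _,
    nin ⟨y, hyW⟩, fun z hz => ?_⟩
  obtain ⟨z', hz', he⟩ := hz.2
  obtain rfl : z' = z := (em p chart U).isOpenEmbedding.injective he
  exact ⟨nin ⟨z', hz'⟩, (vl_res _ _ _ _).trans (hw ⟨z', hz'⟩)⟩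

theorem flat_stalk (hP : RelProj.IsRelProj 𝒮 p chart) (hL : RelProj.IsRelTwist 𝒮 p chart n L lam)
    (hflat : ∃ d₀ : ℕ, ∀ d : ℕ, d₀ ≤ d → ∀ (U : S.Opens) (hU : IsAffineOpen U),
      letI := (𝒮.str.app (op U)).hom.toAlgebra
      Module.Flat Γ(S, U) ↥(Submodule.span Γ(S, U) (𝒮.deg U hU d : Set (𝒮.presheaf.obj (op U)))))
    (U : S.AffineZariskiSite) (y : ProjectiveSpectrum (dg 𝒮 U)) (hx : em p chart U y ∈ p ⁻¹ᵁ U.1) :
    letI := stalkModule p L U.1 hx
    Module.Flat Γ(S, U.1) (L.presheaf.stalk (em p chart U y)) := by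
  classical
  letI := stalkModule p L U.1 hx
  obtain ⟨d₀, hflat⟩ := hflat
  let A := 𝒮.presheaf.obj (op U.1)
  let str : Γ(S, U.1) →+* A := (𝒮.str.app (op U.1)).hom
  let I := y.asHomogeneousIdeal
  refine Module.Flat.of_forall_isTrivialRelation fun {l} {f} {v} hrel => ?_
  choose W hxW hWle s i j a b ha hb hd hgerm hby hval using fun q => exists_rep (lam := lam) U y (v q)
  obtain ⟨e, φ, he, hφ, hφy⟩ := exists_pos_notMem y
  let N := (-n).toNat + d₀
  let B : A := (∏ q, b q) * φ ^ N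
  let J := (∑ q, j q) + N • e
  let D := (((J : ℕ) : ℤ) + n).toNat
  have hNe : N ≤ N • e := by
    rw [smul_eq_mul]
    exact Nat.le_mul_of_pos_right _ he
  have hD : (D : ℤ) = J + n := Int.toNat_of_nonneg (by omega)
  have hDd : d₀ ≤ D := by omega
  have hB : B ∈ dg 𝒮 U J :=
    SetLike.mul_mem_graded (SetLike.prod_mem_graded _ _ _ fun q _ => hb q) (SetLike.pow_mem_graded N hφ)
  have hBy : B ∉ I := fun h => (y.isPrime.mem_or_mem h).elim
    (fun h' => by
      obtain ⟨q, -, hq⟩ := y.isPrime.prod_mem_iff.1 h'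
      exact hby q hq)
    fun h' => hφy (y.isPrime.mem_of_pow_mem N h')
  let a' : Fin l → A := fun q => a q * ((∏ q' ∈ Finset.univ.erase q, b q') * φ ^ N)
  have ha' : ∀ q, a' q ∈ dg 𝒮 U D := fun q => by
    rcases hd q with h | h
    · have hmem : a' q ∈ dg 𝒮 U (i q + ((∑ q' ∈ Finset.univ.erase q, j q') + N • e)) :=
        SetLike.mul_mem_graded (ha q) (SetLike.mul_mem_graded (SetLike.prod_mem_graded _ _ _ fun q' _ => hb q')
          (SetLike.pow_mem_graded N hφ))
      have hsum := Finset.sum_erase_add (f := j) Finset.univ (Finset.mem_univ q)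
      rwa [show i q + ((∑ q' ∈ Finset.univ.erase q, j q') + N • e) = D by omega] at hmem
    · rw [show a' q = 0 by simp [a', h]]
      exact zero_mem _
  let W' : P.Opens := ⟨⋂ q, (W q : Set P), isOpen_iInter_of_finite fun q => (W q).isOpen⟩ ⊓
    (p ⁻¹ᵁ U.1 ⊓ em p chart U ''ᵁ Proj.basicOpen (dg 𝒮 U) φ)
  have hxW' : em p chart U y ∈ W' := ⟨Set.mem_iInter.2 hxW, hx, y, hφy, rfl⟩
  have hle : ∀ q, W' ≤ W q := fun q z hz => Set.mem_iInter.1 hz.1 q
  have hW'U : W' ≤ p ⁻¹ᵁ U.1 := fun z hz => hz.2.1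
  have hφz : ∀ (z) (_ : em p chart U z ∈ W'), φ ∉ z.asHomogeneousIdeal := by
    rintro z hz
    obtain ⟨z', hz', he'⟩ := hz.2.2
    obtain rfl : z' = z := (em p chart U).isOpenEmbedding.injective he'
    exact hz'
  have hBz : ∀ (z) (_ : em p chart U z ∈ W'), B ∉ z.asHomogeneousIdeal := fun z hz h =>
    (z.isPrime.mem_or_mem h).elim (fun h' => by
      obtain ⟨q, -, hq⟩ := z.isPrime.prod_mem_iff.1 h'
      exact (hval q z (hle q hz)).1 hq) fun h' => hφz z hz (z.isPrime.mem_of_pow_mem N h')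
  have hval' : ∀ q z (hz : em p chart U z ∈ W'),
      vl (onChart lam U (tr L (hle q) (s q))) z hz = Localization.mk (a' q) ⟨B, hBz z hz⟩ := fun q z hz => by
    obtain ⟨hb', e'⟩ := hval q z (hle q hz)
    rw [vl_res, e', Localization.mk_eq_mk_iff, Localization.r_iff_exists]
    refine ⟨1, ?_⟩
    have hBq : B = b q * ((∏ q' ∈ Finset.univ.erase q, b q') * φ ^ N) := by
      show (∏ q, b q) * φ ^ N = _
      rw [← Finset.mul_prod_erase _ _ (Finset.mem_univ q), mul_assoc]
    simp only [OneMemClass.coe_one, one_mul, hBq, a']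
    ring
  let rel : Γ(L, W') := ∑ q, ρ U hW'U (f q) • tr L (hle q) (s q)
  have hg0 : L.presheaf.germ W' _ hxW' rel = 0 := by
    rw [← hrel]
    simp only [rel, map_sum]
    refine Finset.sum_congr rfl fun q _ => ?_
    rw [← smul_germ U hx hW'U hxW']
    exact congrArg (f q • ·) ((TopCat.Presheaf.germ_res_apply _ _ _ _ _).trans (hgerm q))
  obtain ⟨W'', hxW'', i₁, i₂, hres⟩ := TopCat.Presheaf.germ_eq L.presheaf _ hxW' hxW' rel 0
    (hg0.trans (map_zero _).symm)
  let yy : y.asHomogeneousIdeal.toIdeal.primeCompl := ⟨B, hBy⟩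
  have hv0 : Localization.mk (∑ q, str (f q) * a' q) yy = (0 : GrTwist.Loc (dg 𝒮 U) y) := by
    have h1 : vl (onChart lam U (tr L i₁.le rel)) y hxW'' = 0 := by
      have : tr L i₁.le rel = 0 := by
        rw [map_zero] at hres
        exact hres
      rw [this]
      show vl ((lam U.1 U.2).app W'' 0) y hxW'' = 0
      rw [map_zero]
      rfl
    rw [vl_res] at h1
    refine Eq.trans ?_ h1
    have hadd : ∀ (T : Finset (Fin l)), vl (onChart lam U (∑ q ∈ T, ρ U hW'U (f q) • tr L (hle q) (s q))) y hxW' =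
        Localization.mk (∑ q ∈ T, str (f q) * a' q) yy := by
      intro T
      induction T using Finset.induction with
      | empty =>
        rw [Finset.sum_empty, Finset.sum_empty, Localization.mk_zero]
        show vl ((lam U.1 U.2).app W' 0) y hxW' = 0
        rw [map_zero]
        rfl
      | insert q T hq ih =>
        rw [Finset.sum_insert hq, Finset.sum_insert hq, RelProjK.onChart_add, RelProjK.vl_add, ih,
          vl_ρ_smul hP, hval', ← Localization.add_mk_self]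
        congr 1
        rw [← Localization.mk_one_eq_algebraMap, Localization.mk_mul, one_mul]
    exact (hadd Finset.univ).symm
  rw [Localization.mk_eq_mk', IsLocalization.mk'_eq_zero_iff] at hv0
  obtain ⟨⟨t, ht⟩, htz⟩ := hv0
  have hzmem : (∑ q, str (f q) * a' q) ∈ dg 𝒮 U D := sum_mem fun q _ => by
    have := SetLike.mul_mem_graded (𝒮.str_mem U.1 U.2 (f q)) (ha' q)
    rwa [zero_add] at this
  obtain ⟨k, τ, hτ, hτy, hτz⟩ := exists_component_notMem y hzmem ht htz
  letI : Algebra Γ(S, U.1) A := str.toAlgebra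
  let Md := Submodule.span Γ(S, U.1) (dg 𝒮 U (k + D) : Set A)
  have : Module.Flat Γ(S, U.1) Md := hflat (k + D) (by omega) U.1 U.2
  let ζ : Fin l → Md := fun q => ⟨τ * a' q, Submodule.subset_span (SetLike.mul_mem_graded hτ (ha' q))⟩
  have hζ : ∑ q, f q • ζ q = 0 := Subtype.ext (by
    rw [Submodule.coe_sum, ZeroMemClass.coe_zero, ← hτz, Finset.mul_sum]
    refine Finset.sum_congr rfl fun q _ => ?_
    show f q • (τ * a' q) = _
    rw [Algebra.smul_def]
    show str (f q) * _ = _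
    ring)
  obtain ⟨r, c, g, hcg, hc0⟩ := Module.Flat.isTrivialRelation_of_sum_smul_eq_zero hζ
  have hgmem : ∀ q, (g q : A) ∈ dg 𝒮 U (k + D) := fun q => by
    refine Submodule.span_induction (p := fun z _ => z ∈ dg 𝒮 U (k + D)) (fun z hz => hz) (zero_mem _)
      (fun _ _ _ _ h h' => add_mem h h') (fun c' z _ hz => ?_) (g q).2
    rw [Algebra.smul_def]
    have := SetLike.mul_mem_graded (𝒮.str_mem U.1 U.2 c') hz
    rwa [zero_add] at this
  have hB' : τ * B ∈ dg 𝒮 U (k + J) := SetLike.mul_mem_graded hτ hB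
  have hdeg : ((k + D : ℕ) : ℤ) = ((k + J : ℕ) : ℤ) + n := by push_cast; omega
  let W₂ : P.Opens := W' ⊓ em p chart U ''ᵁ Proj.basicOpen (dg 𝒮 U) τ
  have hxW₂ : em p chart U y ∈ W₂ := ⟨hxW', y, hτy, rfl⟩
  have hW₂U : W₂ ≤ p ⁻¹ᵁ U.1 := inf_le_left.trans hW'U
  have nin : ∀ z : (em p chart U ⁻¹ᵁ W₂ : (Proj (dg 𝒮 U)).Opens), τ * B ∉ z.1.asHomogeneousIdeal := by
    rintro ⟨z, hz⟩ h
    refine (z.isPrime.mem_or_mem h).elim (fun h' => ?_) (hBz z hz.1)
    obtain ⟨z', hz', he'⟩ := hz.2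
    obtain rfl : z' = z := (em p chart U).isOpenEmbedding.injective he'
    exact hz' h'
  choose w hw using fun q => (hL.bijective U.1 U.2 W₂ hW₂U).2
    (RelProjK.ofSec (RelProjK.fracSec (g q : A) (τ * B) (hgmem q) hB' nin hdeg) : Γ(Tw p chart n U, W₂))
  have hvw : ∀ q z (hz : em p chart U z ∈ W₂),
      vl (onChart lam U (w q)) z hz = Localization.mk (g q : A) ⟨τ * B, nin ⟨z, hz⟩⟩ := fun q z hz =>
    congrArg (fun t => vl t z hz) (hw q)
  refine ⟨r, c, fun q => L.presheaf.germ W₂ _ hxW₂ (w q), fun q => ?_, hc0⟩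
  have key : tr L (inf_le_left.trans (hle q) : W₂ ≤ W q) (s q) = ∑ q', ρ U hW₂U (c q q') • w q' := by
    refine (hL.bijective U.1 U.2 W₂ hW₂U).1 (RelProjK.vl_ext (fun z hz => ?_))
    have hlhs : vl (onChart lam U (tr L (inf_le_left.trans (hle q) : W₂ ≤ W q) (s q))) z hz =
        Localization.mk (a' q) ⟨B, hBz z hz.1⟩ := by
      rw [← hval' q z hz.1, vl_res, vl_res]
    have hadd : ∀ (T : Finset (Fin r)), vl (onChart lam U (∑ q' ∈ T, ρ U hW₂U (c q q') • w q')) z hz =
        Localization.mk (∑ q' ∈ T, str (c q q') * (g q' : A)) ⟨τ * B, nin ⟨z, hz⟩⟩ := by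
      intro T
      induction T using Finset.induction with
      | empty =>
        rw [Finset.sum_empty, Finset.sum_empty, Localization.mk_zero]
        show vl ((lam U.1 U.2).app W₂ 0) z hz = 0
        rw [map_zero]
        rfl
      | insert q' T hq' ih =>
        rw [Finset.sum_insert hq', Finset.sum_insert hq', RelProjK.onChart_add, RelProjK.vl_add, ih,
          vl_ρ_smul hP, hvw, ← Localization.add_mk_self]
        congr 1
        rw [← Localization.mk_one_eq_algebraMap, Localization.mk_mul, one_mul]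
    refine Eq.trans hlhs (Eq.trans ?_ (hadd Finset.univ).symm)
    have h2 : ∑ q', str (c q q') * (g q' : A) = τ * a' q := by
      have := congrArg Subtype.val (hcg q)
      simp only [Submodule.coe_sum, Submodule.coe_smul, ζ, Algebra.smul_def] at this
      exact this.symm
    rw [h2, Localization.mk_eq_mk_iff, Localization.r_iff_exists]
    exact ⟨1, by simp only [OneMemClass.coe_one, one_mul]; ring⟩
  rw [← hgerm q, ← TopCat.Presheaf.germ_res_apply L.presheaf (homOfLE (inf_le_left.trans (hle q) : W₂ ≤ W q))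
    _ hxW₂ (s q)]
  refine (congrArg _ key).trans ?_
  rw [map_sum]
  exact Finset.sum_congr rfl fun q' _ => (smul_germ U hx hW₂U hxW₂ _ _).symm

end GrothLib.RelFlat12
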