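import Groth.Agent.Lib.RelFlat12.Basic

/-!
# Flatness of a relative `Proj` and of its twisting sheaves
-/

set_option autoImplicit false
set_option backward.isDefEq.respectTransparency false
set_option linter.all false

universe u

open CategoryTheory CategoryTheory.Limits AlgebraicGeometry TopologicalSpace Opposite
open GrothLib.RelProjK (dg em Tw vl onChart tr)
open GrothLib.InvExt (IsGen mres)

noncomputable section

namespace GrothLib.RelFlat12

variable {S P : Scheme.{u}} {𝒮 : RelProj.QCGrAlg S} {p : P ⟶ S}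
  {chart : ∀ (U : S.Opens) (hU : IsAffineOpen U), (((p ⁻¹ᵁ U : P.Opens) : Scheme.{u}) ≅ Proj (𝒮.deg U hU))}

theorem isFlatOver (hP : RelProj.IsRelProj 𝒮 p chart) {n : ℤ} {L : P.Modules}
    {lam : ∀ (U : S.Opens) (hU : IsAffineOpen U),
      L ⟶ (Scheme.Modules.pushforward (RelProj.emb p chart U hU)).obj (GrTwist.twist (𝒮.deg U hU) n)}
    (hL : RelProj.IsRelTwist 𝒮 p chart n L lam)
    (hflat : ∃ d₀ : ℕ, ∀ d : ℕ, d₀ ≤ d → ∀ (U : S.Opens) (hU : IsAffineOpen U),
      letI := (𝒮.str.app (op U)).hom.toAlgebra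
      Module.Flat Γ(S, U) ↥(Submodule.span Γ(S, U) (𝒮.deg U hU d : Set (𝒮.presheaf.obj (op U))))) :
    FlatMod.IsFlatOver p L := by
  intro x
  obtain ⟨U, hU, hxU, -⟩ := exists_isAffineOpen_mem_and_subset (Opens.mem_top (p x))
  obtain ⟨y, rfl⟩ := (RelProjK.mem_opensRange_em (p := p) (chart := chart) ⟨U, hU⟩).2 hxU
  set x := em p chart ⟨U, hU⟩ y
  letI := stalkModule p L U (x := x) hxU
  letI := FlatMod.moduleStalkOver p L x
  have hflatU : Module.Flat Γ(S, U) (L.presheaf.stalk x) := flat_stalk hP hL hflat ⟨U, hU⟩ y hxU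
  letI : Algebra Γ(S, U) (S.presheaf.stalk (p x)) := TopCat.Presheaf.algebra_section_stalk S.presheaf (⟨p x, hxU⟩ : U)
  haveI := hU.isLocalization_stalk ⟨p x, hxU⟩
  haveI : IsScalarTower Γ(S, U) (S.presheaf.stalk (p x)) (L.presheaf.stalk x) :=
    IsScalarTower.of_algebraMap_smul fun c v => by
      show ((p.stalkMap x).hom (S.presheaf.germ U (p x) hxU c)) • v = _
      refine congrArg (fun a : P.presheaf.stalk x => a • v) ?_
      exact Scheme.Hom.germ_stalkMap_apply p U x hxU c
  exact (Module.flat_iff_of_isLocalization (S.presheaf.stalk (p x)) (hU.primeIdealOf ⟨p x, hxU⟩).asIdeal.primeCompl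
    (L.presheaf.stalk x)).2 hflatU

theorem flat (hP : RelProj.IsRelProj 𝒮 p chart)
    (hflat : ∃ d₀ : ℕ, ∀ d : ℕ, d₀ ≤ d → ∀ (U : S.Opens) (hU : IsAffineOpen U),
      letI := (𝒮.str.app (op U)).hom.toAlgebra
      Module.Flat Γ(S, U) ↥(Submodule.span Γ(S, U) (𝒮.deg U hU d : Set (𝒮.presheaf.obj (op U))))) :
    Flat p := by
  obtain ⟨L, lam, hL⟩ := RelProjK.exists_isRelTwist (n := (0 : ℤ)) hP
  let one : ∀ U : S.AffineZariskiSite, Γ(Tw p chart 0 U, ⊤) := fun U =>
    RelProjK.ofSec (RelProjK.fracSec (1 : 𝒮.presheaf.obj (op U.1)) 1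
      (SetLike.GradedOne.one_mem) (SetLike.GradedOne.one_mem)
      (fun z h => z.1.isPrime.ne_top ((Ideal.eq_top_iff_one _).2 h)) (by simp))
  have hone : ∀ (U : S.AffineZariskiSite) z hz, vl (one U) z hz = 1 := fun U z hz => by
    show Localization.mk _ _ = _
    exact Localization.mk_one
  have hfam : RelProjK.IsFam (Tw p chart 0) (RelProjK.cm hP 0) one := fun U V h => by
    refine RelProjK.vl_ext fun z hz => ?_
    rw [RelProjK.vl_cm, hone, hone, map_one]
  obtain ⟨s, hs, -⟩ := RelProjK.existsUnique_section hP 0 hL one hfam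
  refine (Flat.iff_flat_stalkMap p).2 fun x => ?_
  obtain ⟨U, hU, hxU, -⟩ := exists_isAffineOpen_mem_and_subset (Opens.mem_top (p x))
  let U' : S.AffineZariskiSite := ⟨U, hU⟩
  have hgen : IsGen L (p ⁻¹ᵁ U) (mres L le_top s) := by
    intro W hW
    have hb : Function.Bijective ((em p chart U').app W) := by
      have hr : W ≤ (em p chart U').opensRange := fun z hz => (RelProjK.mem_opensRange_em U').2 (hW hz)
      haveI := (em p chart U').isIso_app W hr
      exact ConcreteCategory.bijective_of_isIso _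
    let g : Γ(GrTwist.twist (dg 𝒮 U') ((0 : ℕ) : ℤ), em p chart U' ⁻¹ᵁ W) :=
      onChart lam U' (tr L (le_top : W ≤ ⊤) s)
    have hg := RelTilde8.bijective_smul_of_val_eq (𝒜 := dg 𝒮 U') (d := 0) (f := 1) SetLike.GradedOne.one_mem
      (V := em p chart U' ⁻¹ᵁ W) (fun z h => z.1.isPrime.ne_top ((Ideal.eq_top_iff_one _).2 h)) g fun z => by
        show vl (onChart lam U' (tr L (le_top : W ≤ ⊤) s)) z.1 z.2 = _
        rw [vl_res, show onChart lam U' s = one U' from hs U', hone]
        exact Localization.mk_one.symm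
    have h2 : Function.Bijective fun c : Γ(P, W) => (lam U hU).app W (c • tr L (le_top : W ≤ ⊤) s) := by
      have h3 := hg.comp hb
      refine Eq.mpr (congrArg Function.Bijective (funext fun c => ?_)) h3
      exact RelProjK.onChart_smul lam U' c _
    have h4 := ((hL.bijective U hU W hW).of_comp_iff' (fun c : Γ(P, W) => c • tr L (le_top : W ≤ ⊤) s)).1 h2
    convert h4 using 3 with c
    exact InvExt.mres_mres L le_top hW s
  have hG := Ref1.gen_of_isGen hgen (show x ∈ p ⁻¹ᵁ U from hxU)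
  letI : Algebra (S.presheaf.stalk (p x)) (P.presheaf.stalk x) := (p.stalkMap x).hom.toAlgebra
  letI := FlatMod.moduleStalkOver p L x
  have hLflat : Module.Flat (S.presheaf.stalk (p x)) (L.presheaf.stalk x) := isFlatOver hP hL hflat x
  let T : P.presheaf.stalk x →ₗ[S.presheaf.stalk (p x)] L.presheaf.stalk x :=
    { toFun := fun a => a • L.presheaf.germ (p ⁻¹ᵁ U) x hxU (mres L le_top s)
      map_add' := fun a b => add_smul a b _
      map_smul' := fun c a => by
        show ((p.stalkMap x).hom c * a) • (L.presheaf.germ (p ⁻¹ᵁ U) x hxU (mres L le_top s) : L.presheaf.stalk x) =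
          (p.stalkMap x).hom c • (a • (L.presheaf.germ (p ⁻¹ᵁ U) x hxU (mres L le_top s) : L.presheaf.stalk x))
        exact mul_smul _ _ _ }
  exact Module.Flat.of_linearEquiv (LinearEquiv.ofBijective T hG)

end GrothLib.RelFlat12
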